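import Mathlib

/-!
# S4844, `FactOut`: numerical part (helper267)

`Sq r n : r ∣ n → r ^ 2 ∣ n`. If `q = q₀ ^ r` then all factors `q`, `q ^ k - 1`, `q ^ k + 1` have this property.
-/

set_option autoImplicit false

namespace Cfsg.Agent.H267.PSq.Out

/-- `r ∣ n → r ^ 2 ∣ n` -/
def Sq (r n : ℕ) : Prop := r ∣ n → r ^ 2 ∣ n

variable {r : ℕ}

theorem Sq.one (hr : r.Prime) : Sq r 1 := fun h => absurd (Nat.dvd_one.1 h) hr.one_lt.ne'

theorem Sq.mul (hr : r.Prime) {a b : ℕ} (ha : Sq r a) (hb : Sq r b) : Sq r (a * b) := fun h => by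
  rcases hr.dvd_mul.1 h with h1 | h1
  · exact (ha h1).mul_right _
  · exact (hb h1).mul_left _

theorem Sq.prod (hr : r.Prime) {ι : Type*} (s : Finset ι) (f : ι → ℕ) (h : ∀ i ∈ s, Sq r (f i)) :
    Sq r (∏ i ∈ s, f i) := fun hd => by
  obtain ⟨i, hi, h1⟩ := (Nat.Prime.prime hr).exists_mem_finset_dvd hd
  exact (h i hi h1).trans (Finset.dvd_prod_of_mem f hi)

theorem Sq.pow (hr : r.Prime) {a : ℕ} (ha : Sq r a) (k : ℕ) : Sq r (a ^ k) := fun hd => by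
  have h1 := hr.dvd_of_dvd_pow hd
  have hk : k ≠ 0 := by
    rintro rfl
    rw [pow_zero] at hd
    exact hr.one_lt.ne' (Nat.dvd_one.1 hd)
  exact (ha h1).trans (dvd_pow_self a hk)

theorem Sq.base (hr : r.Prime) (q₀ : ℕ) : Sq r (q₀ ^ r) := fun hd => by
  have h1 := hr.dvd_of_dvd_pow hd
  exact (pow_dvd_pow_of_dvd h1 2).trans (pow_dvd_pow q₀ hr.two_le)

/-- `r ∣ x - y → r ^ 2 ∣ x ^ r - y ^ r`, with the hypothesis on `x ^ r - y ^ r` -/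
theorem lift (hr : r.Prime) (x y : ℤ) (h : (r : ℤ) ∣ x ^ r - y ^ r) : (r : ℤ) ^ 2 ∣ x ^ r - y ^ r := by
  have : Fact r.Prime := ⟨hr⟩
  have h1 : (r : ℤ) ∣ x - y := by
    rw [← ZMod.intCast_zmod_eq_zero_iff_dvd] at h ⊢
    push_cast at h ⊢
    rwa [ZMod.pow_card, ZMod.pow_card] at h
  have h2 := dvd_sub_pow_of_dvd_sub h1 1
  rwa [pow_one] at h2

theorem sub (hr : r.Prime) {q₀ : ℕ} (hq : 1 ≤ q₀) (k : ℕ) : Sq r ((q₀ ^ r) ^ k - 1) := fun hd => by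
  have h1 : 1 ≤ (q₀ ^ r) ^ k := Nat.one_le_pow _ _ (Nat.one_le_pow _ _ hq)
  have e : (((q₀ ^ r) ^ k - 1 : ℕ) : ℤ) = ((q₀ : ℤ) ^ k) ^ r - 1 ^ r := by
    rw [Nat.cast_sub h1]
    push_cast
    rw [one_pow, ← pow_mul, ← pow_mul, mul_comm]
  have h2 : (r : ℤ) ∣ ((q₀ : ℤ) ^ k) ^ r - 1 ^ r := by rw [← e]; exact_mod_cast hd
  have h3 := lift hr _ _ h2
  rw [← e] at h3
  exact_mod_cast h3

theorem add (hr : r.Prime) (hr2 : r ≠ 2) (q₀ k : ℕ) : Sq r ((q₀ ^ r) ^ k + 1) := fun hd => by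
  have ho : Odd r := hr.odd_of_ne_two hr2
  have e : (((q₀ ^ r) ^ k + 1 : ℕ) : ℤ) = ((q₀ : ℤ) ^ k) ^ r - (-1) ^ r := by
    rw [ho.neg_one_pow]
    push_cast
    rw [← pow_mul, ← pow_mul, mul_comm]
    ring
  have h2 : (r : ℤ) ∣ ((q₀ : ℤ) ^ k) ^ r - (-1) ^ r := by rw [← e]; exact_mod_cast hd
  have h3 := lift hr _ _ h2
  rw [← e] at h3
  exact_mod_cast h3

/-- `q` is an `r`-th power -/
def Pw (r q : ℕ) : Prop := ∃ q₀, 1 ≤ q₀ ∧ q = q₀ ^ r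

theorem Pw.of_dvd {p f : ℕ} (hp : p.Prime) (h : r ∣ f) : Pw r (p ^ f) := by
  obtain ⟨c, rfl⟩ := h
  exact ⟨p ^ c, Nat.one_le_pow _ _ hp.pos, by rw [← pow_mul, mul_comm]⟩

theorem Pw.base {q : ℕ} (hr : r.Prime) (h : Pw r q) : Sq r q := by
  obtain ⟨q₀, h0, rfl⟩ := h
  exact Sq.base hr q₀

theorem Pw.pow {q : ℕ} (hr : r.Prime) (h : Pw r q) (k : ℕ) : Sq r (q ^ k) := (h.base hr).pow hr k

theorem Pw.sub {q : ℕ} (hr : r.Prime) (h : Pw r q) (k : ℕ) : Sq r (q ^ k - 1) := by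
  obtain ⟨q₀, h0, rfl⟩ := h
  exact Out.sub hr h0 k

theorem Pw.sub_one {q : ℕ} (hr : r.Prime) (h : Pw r q) : Sq r (q - 1) := by
  have := h.sub hr 1
  rwa [pow_one] at this

theorem Pw.add {q : ℕ} (hr : r.Prime) (hr2 : r ≠ 2) (h : Pw r q) (k : ℕ) : Sq r (q ^ k + 1) := by
  obtain ⟨q₀, h0, rfl⟩ := h
  exact Out.add hr hr2 q₀ k

/-- division by a number prime to `r` -/
theorem Sq.of_mul (hr : r.Prime) {d n : ℕ} (hd : ¬ r ∣ d) (h : Sq r (d * n)) : Sq r n := fun h1 => by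
  have h2 := h (h1.mul_left d)
  exact (Nat.Coprime.dvd_of_dvd_mul_left ((Nat.Coprime.pow_left 2 ((Nat.Prime.coprime_iff_not_dvd hr).2 hd))) h2)

theorem not_dvd_two (hr : r.Prime) (hr2 : r ≠ 2) : ¬ r ∣ 2 := fun h => hr2 ((Nat.prime_dvd_prime_iff_eq hr Nat.prime_two).1 h)

theorem not_dvd_two_pow (hr : r.Prime) (hr2 : r ≠ 2) (k : ℕ) : ¬ r ∣ 2 ^ k := fun h =>
  not_dvd_two hr hr2 (hr.dvd_of_dvd_pow h)

theorem not_dvd_four (hr : r.Prime) (hr2 : r ≠ 2) : ¬ r ∣ 4 := not_dvd_two_pow hr hr2 2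

theorem not_dvd_eight (hr : r.Prime) (hr2 : r ≠ 2) : ¬ r ∣ 8 := not_dvd_two_pow hr hr2 3

theorem three_of_dvd (hr : r.Prime) (h : r ∣ 3) : r = 3 := (Nat.prime_dvd_prime_iff_eq hr Nat.prime_three).1 h

/-- `3 ∣ q` or `3 ∣ q ^ 2 - 1` -/
theorem three_cases (q : ℕ) (hq : 1 ≤ q) : 3 ∣ q ∨ 3 ∣ q ^ 2 - 1 := by
  obtain ⟨k, rfl⟩ : ∃ k, q = k + 1 := ⟨q - 1, by omega⟩
  have e : (k + 1) ^ 2 - 1 = k * (k + 2) := by
    have : (k + 1) ^ 2 = k * (k + 2) + 1 := by ring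
    omega
  rw [e]
  have h : k % 3 = 0 ∨ k % 3 = 1 ∨ k % 3 = 2 := by omega
  rcases h with h | h | h
  · right; exact (Nat.dvd_of_mod_eq_zero h).mul_right _
  · right; exact (Nat.dvd_of_mod_eq_zero (by omega)).mul_left _
  · left; exact Nat.dvd_of_mod_eq_zero (by omega)

theorem sub_dvd (q a k : ℕ) (_hq : 1 ≤ q) (h : a ∣ k) : q ^ a - 1 ∣ q ^ k - 1 := by
  obtain ⟨c, rfl⟩ := h
  have := Nat.sub_dvd_pow_sub_pow (q ^ a) 1 c
  rwa [one_pow, ← pow_mul] at this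

theorem add_dvd_sub (q k : ℕ) (hq : 1 ≤ q) (h : Even k) : q + 1 ∣ q ^ k - 1 := by
  obtain ⟨c, rfl⟩ := h
  have h2 : q + 1 ∣ q ^ 2 - 1 := by
    have := Nat.sq_sub_sq q 1
    rw [one_pow] at this
    rw [this]
    exact dvd_mul_right _ _
  exact h2.trans (sub_dvd q 2 (c + c) hq ⟨c, by ring⟩)

theorem add_dvd_add (q k : ℕ) (h : Odd k) : q + 1 ∣ q ^ k + 1 := by
  have := h.nat_add_dvd_pow_add_pow q 1
  rwa [one_pow] at this

/-- `r ∣ q - 1 → (q - 1) r ∣ q ^ r - 1` -/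
theorem mul_dvd_sub (hr : r.Prime) {q : ℕ} (hq : 1 ≤ q) (h : r ∣ q - 1) : (q - 1) * r ∣ q ^ r - 1 := by
  have e : q ^ r - 1 = (q - 1) * ∑ i ∈ Finset.range r, q ^ i := by
    have h3 : (∑ i ∈ Finset.range r, q ^ i) * (q - 1) = q ^ r - 1 := by
      have h4 := geom_sum_mul (q : ℤ) r
      have h5 : 1 ≤ q ^ r := Nat.one_le_pow _ _ hq
      zify [hq, h5]
      exact h4
    rw [← h3, mul_comm]
  rw [e]
  refine mul_dvd_mul_left _ ?_
  have h1 : (∑ i ∈ Finset.range r, q ^ i) ≡ ∑ _i ∈ Finset.range r, 1 [MOD r] := by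
    refine Nat.ModEq.sum fun i _ => ?_
    have h2 : q ≡ 1 [MOD r] := ((Nat.modEq_iff_dvd' hq).2 h).symm
    simpa using h2.pow i
  rw [Finset.sum_const, Finset.card_range, smul_eq_mul, mul_one] at h1
  exact (Nat.modEq_zero_iff_dvd.1 (h1.trans (by simp [Nat.ModEq])))

/-- `r ∣ q + 1 → (q + 1) r ∣ q ^ r + 1`, `r` odd -/
theorem mul_dvd_add (hr : r.Prime) (hr2 : r ≠ 2) {q : ℕ} (h : r ∣ q + 1) : (q + 1) * r ∣ q ^ r + 1 := by
  have ho : Odd r := hr.odd_of_ne_two hr2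
  have e : (q : ℤ) ^ r + 1 = (q + 1) * ∑ i ∈ Finset.range r, (-(q : ℤ)) ^ i := by
    have h4 := geom_sum_mul (-(q : ℤ)) r
    rw [ho.neg_pow] at h4
    linear_combination h4
  have h1 : (r : ℤ) ∣ ∑ i ∈ Finset.range r, (-(q : ℤ)) ^ i := by
    rw [← ZMod.intCast_zmod_eq_zero_iff_dvd]
    push_cast
    have h2 : -(q : ZMod r) = 1 := by
      have h3 : ((q + 1 : ℕ) : ZMod r) = 0 := (ZMod.natCast_eq_zero_iff _ _).2 h
      push_cast at h3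
      linear_combination -h3
    rw [h2]
    simp
  have h2 : ((q : ℤ) + 1) * r ∣ (q : ℤ) ^ r + 1 := by
    rw [e]
    exact mul_dvd_mul_left _ h1
  exact_mod_cast h2

/-- two factors of a product -/
theorem two_factors {n i j : ℕ} (f : ℕ → ℕ) (hi : i < n) (hj : j < n) (hij : i ≠ j) {a b : ℕ} (ha : a ∣ f i)
    (hb : b ∣ f j) : a * b ∣ ∏ k ∈ Finset.range n, f k := by
  have h1 : ∏ k ∈ ({i, j} : Finset ℕ), f k ∣ ∏ k ∈ Finset.range n, f k := by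
    apply Finset.prod_dvd_prod_of_subset
    intro k hk
    rw [Finset.mem_insert, Finset.mem_singleton] at hk
    rw [Finset.mem_range]
    rcases hk with rfl | rfl <;> assumption
  rw [Finset.prod_pair hij] at h1
  exact (mul_dvd_mul ha hb).trans h1

/-- **diagonal case** : `d ∣ u`, `r ∣ u`, `u r u ∣ d N` → `r ^ 2 ∣ N` -/
theorem diag {u d N : ℕ} (hu : 0 < u) (hd : d ∣ u) (hr : r ∣ u) (h : (u * r) * u ∣ d * N) : r ^ 2 ∣ N := by
  obtain ⟨m, rfl⟩ := hd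
  have hd0 : 0 < d := Nat.pos_of_mul_pos_right hu
  have e : d * m * r * (d * m) = d * (m * r * (d * m)) := by ring
  rw [e] at h
  have h1 := Nat.dvd_of_mul_dvd_mul_left hd0 h
  refine dvd_trans ?_ h1
  have h2 : r ^ 2 ∣ r * (d * m) := by rw [sq]; exact mul_dvd_mul_left _ hr
  refine h2.trans ⟨m, by ring⟩

/-- the product formula for `PSL_n(q)` without the factor `q - 1` -/
theorem psl_form {q n d N : ℕ} (hq : 2 ≤ q) (hn : 1 ≤ n)
    (h : d * ((q - 1) * N) = ∏ i : Fin n, (q ^ n - q ^ (i : ℕ))) :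
    d * N = (∏ i ∈ Finset.range (n - 1), (q ^ i * (q ^ (n - i) - 1))) * q ^ (n - 1) := by
  obtain ⟨m, rfl⟩ : ∃ m, n = m + 1 := ⟨n - 1, by omega⟩
  rw [Fin.prod_univ_eq_prod_range (fun i => q ^ (m + 1) - q ^ i) (m + 1), Finset.prod_range_succ] at h
  have h1 : ∏ i ∈ Finset.range m, (q ^ (m + 1) - q ^ i) = ∏ i ∈ Finset.range m, (q ^ i * (q ^ (m + 1 - i) - 1)) := by
    refine Finset.prod_congr rfl fun i hi => ?_
    rw [Finset.mem_range] at hi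
    rw [Nat.mul_sub_one, ← pow_add]
    congr 2
    omega
  have h2 : q ^ (m + 1) - q ^ m = (q - 1) * q ^ m := by
    rw [Nat.sub_one_mul, pow_succ, mul_comm]
  rw [h1, h2] at h
  have h3 : (q - 1) * (d * N) =
      (q - 1) * ((∏ i ∈ Finset.range m, (q ^ i * (q ^ (m + 1 - i) - 1))) * q ^ m) := by
    rw [show (q - 1) * (d * N) = d * ((q - 1) * N) by ring, h]
    ring
  have := Nat.eq_of_mul_eq_mul_left (by omega) h3
  simpa using this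

theorem psl_diag (hr : r.Prime) (hr2 : r ≠ 2) {q n d N : ℕ} (hq : 2 ≤ q) (hd : d = Nat.gcd n (q - 1)) (hrd : r ∣ d)
    (hn : 3 ≤ n)
    (h : d * N = (∏ i ∈ Finset.range (n - 1), (q ^ i * (q ^ (n - i) - 1))) * q ^ (n - 1)) : r ^ 2 ∣ N := by
  have hrn : r ∣ n := hrd.trans (hd ▸ Nat.gcd_dvd_left _ _)
  have hrq : r ∣ q - 1 := hrd.trans (hd ▸ Nat.gcd_dvd_right _ _)
  have hdq : d ∣ q - 1 := hd ▸ Nat.gcd_dvd_right _ _
  have hle : r ≤ n := Nat.le_of_dvd (by omega) hrn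
  have hr3 : 3 ≤ r := by have := hr.two_le; omega
  refine diag (u := q - 1) (by omega) hdq hrq ?_
  rw [h]
  refine Dvd.dvd.mul_right ?_ _
  have key : ∀ i, i < n - 1 → q - 1 ∣ q ^ i * (q ^ (n - i) - 1) := fun i hi => by
    refine Dvd.dvd.mul_left ?_ _
    have := sub_dvd q 1 (n - i) (by omega) (one_dvd _)
    rwa [pow_one] at this
  have hi : (q - 1) * r ∣ q ^ (n - r) * (q ^ (n - (n - r)) - 1) := by
    refine Dvd.dvd.mul_left ?_ _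
    rw [show n - (n - r) = r by omega]
    exact mul_dvd_sub hr (by omega) hrq
  by_cases h0 : n - r = 0
  · exact two_factors (fun i => q ^ i * (q ^ (n - i) - 1)) (i := n - r) (j := 1) (by omega) (by omega) (by omega) hi
      (key 1 (by omega))
  · exact two_factors (fun i => q ^ i * (q ^ (n - i) - 1)) (i := n - r) (j := 0) (by omega) (by omega) h0 hi
      (key 0 (by omega))

theorem psl_sq (hr : r.Prime) {q n : ℕ} (hp : Pw r q) :
    Sq r ((∏ i ∈ Finset.range (n - 1), (q ^ i * (q ^ (n - i) - 1))) * q ^ (n - 1)) :=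
  (Sq.prod hr _ _ fun i _ => (hp.pow hr i).mul hr (hp.sub hr _)).mul hr (hp.pow hr _)

/-- the factors of `|PSU_n(q)|` -/
def g (q i : ℕ) : ℕ := if Even i then q ^ (i + 1) + 1 else q ^ (i + 1) - 1

theorem dvd_g (q i : ℕ) (hq : 1 ≤ q) : q + 1 ∣ g q i := by
  unfold g
  split_ifs with h
  · exact add_dvd_add q (i + 1) h.add_one
  · exact add_dvd_sub q (i + 1) hq (Nat.not_even_iff_odd.1 h).add_one

theorem psu_form {q n d N a : ℕ} (hn : 1 ≤ n)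
    (h : d * ((q + 1) * N) = q ^ a * ∏ i ∈ Finset.range n, (if Even i then q ^ (i + 1) + 1 else q ^ (i + 1) - 1)) :
    d * N = q ^ a * ∏ i ∈ Finset.range (n - 1), g q (i + 1) := by
  obtain ⟨m, rfl⟩ : ∃ m, n = m + 1 := ⟨n - 1, by omega⟩
  change d * ((q + 1) * N) = q ^ a * ∏ i ∈ Finset.range (m + 1), g q i at h
  rw [Finset.prod_range_succ'] at h
  have h1 : g q 0 = q + 1 := by simp [g]
  rw [h1] at h
  have h3 : (q + 1) * (d * N) = (q + 1) * (q ^ a * ∏ i ∈ Finset.range m, g q (i + 1)) := by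
    rw [show (q + 1) * (d * N) = d * ((q + 1) * N) by ring, h]
    ring
  have := Nat.eq_of_mul_eq_mul_left (by omega) h3
  simpa using this

theorem psu_diag (hr : r.Prime) (hr2 : r ≠ 2) {q n d N a : ℕ} (hq : 1 ≤ q) (hd : d = Nat.gcd n (q + 1)) (hrd : r ∣ d)
    (hn : 3 ≤ n) (h : d * N = q ^ a * ∏ i ∈ Finset.range (n - 1), g q (i + 1)) : r ^ 2 ∣ N := by
  have hrn : r ∣ n := hrd.trans (hd ▸ Nat.gcd_dvd_left _ _)
  have hrq : r ∣ q + 1 := hrd.trans (hd ▸ Nat.gcd_dvd_right _ _)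
  have hdq : d ∣ q + 1 := hd ▸ Nat.gcd_dvd_right _ _
  have hle : r ≤ n := Nat.le_of_dvd (by omega) hrn
  have hr3 : 3 ≤ r := by have := hr.two_le; omega
  refine diag (u := q + 1) (by omega) hdq hrq ?_
  rw [h]
  refine Dvd.dvd.mul_left ?_ _
  have hi : (q + 1) * r ∣ g q (r - 2 + 1) := by
    have he : Even (r - 2 + 1) := by
      obtain ⟨c, hc⟩ := hr.odd_of_ne_two hr2
      exact ⟨c, by omega⟩
    unfold g
    rw [if_pos he, show r - 2 + 1 + 1 = r by omega]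
    exact mul_dvd_add hr hr2 hrq
  by_cases h0 : r - 2 = 0
  · omega
  · exact two_factors (fun i => g q (i + 1)) (i := r - 2) (j := 0) (by omega) (by omega) h0 hi (dvd_g q _ hq)

theorem psu_sq (hr : r.Prime) (hr2 : r ≠ 2) {q n a : ℕ} (hp : Pw r q) :
    Sq r (q ^ a * ∏ i ∈ Finset.range (n - 1), g q (i + 1)) :=
  (hp.pow hr _).mul hr (Sq.prod hr _ _ fun i _ => by
    unfold g
    split_ifs
    · exact hp.add hr hr2 _
    · exact hp.sub hr _)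

/-- a number divisible by `q ^ a (q ^ 2 - 1) (q ^ (2 k) - 1)`, `a ≥ 2`, is divisible by `9` -/
theorem nine_dvd {q k N : ℕ} (hq : 1 ≤ q) (h : q ^ 2 * (q ^ 2 - 1) * (q ^ (2 * k) - 1) ∣ N) : 3 ^ 2 ∣ N := by
  refine dvd_trans ?_ h
  rcases three_cases q hq with h1 | h1
  · exact ((pow_dvd_pow_of_dvd h1 2).mul_right _).mul_right _
  · have h2 : 3 ∣ q ^ (2 * k) - 1 := h1.trans (sub_dvd q 2 (2 * k) hq ⟨k, rfl⟩)
    rw [sq, mul_assoc (q ^ 2)]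
    exact (mul_dvd_mul h1 h2).mul_left _

/-- the factor `q ^ 8 + q ^ 4 + 1` -/
theorem cub (hr : r.Prime) (hr3 : r ≠ 3) {q : ℕ} (hp : Pw r q) (hq : 1 ≤ q) : Sq r (q ^ 8 + q ^ 4 + 1) := fun hd => by
  have e : q ^ 12 - 1 = (q ^ 4 - 1) * (q ^ 8 + q ^ 4 + 1) := by
    have h1 : 1 ≤ q ^ 12 := Nat.one_le_pow _ _ hq
    have h2 : 1 ≤ q ^ 4 := Nat.one_le_pow _ _ hq
    zify [h1, h2]
    ring
  have h1 : r ^ 2 ∣ q ^ 12 - 1 := hp.sub hr 12 (by rw [e]; exact hd.mul_left _)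
  rw [e] at h1
  have h2 : ¬ r ∣ q ^ 4 - 1 := fun h => by
    apply hr3
    have h3 : q ^ 4 ≡ 1 [MOD r] := ((Nat.modEq_iff_dvd' (Nat.one_le_pow _ _ hq)).2 h).symm
    have h4 : q ^ 8 + q ^ 4 + 1 ≡ 1 + 1 + 1 [MOD r] := by
      have h5 : q ^ 8 ≡ 1 [MOD r] := by
        have := h3.pow 2
        rwa [← pow_mul, one_pow] at this
      exact (h5.add h3).add_right 1
    have h5 : r ∣ 3 := Nat.modEq_zero_iff_dvd.1 (h4.symm.trans (Nat.modEq_zero_iff_dvd.2 hd))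
    exact three_of_dvd hr h5
  exact Nat.Coprime.dvd_of_dvd_mul_left (Nat.Coprime.pow_left 2 ((Nat.Prime.coprime_iff_not_dvd hr).2 h2)) h1

end Cfsg.Agent.H267.PSq.Out
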