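import Cfsg.Agent.H489.OutAll
import Cfsg.Agent.H267.PSq.OutNum
import Cfsg.Agent.H696.PSq.Defs

/-!
# S4844, `FactOut` (helper267)

`S` a finite simple group, `r` an odd prime which divides `|S|` but not `r ^ 2` : then `r ∤ |Out S|`.
-/

set_option autoImplicit false

namespace Cfsg.Agent.H267.PSq.Out

open Cfsg Subgroup Cfsg.Lie Cfsg.Agent.H489

universe u

/-- `r ∣ |S|`, `r ∣ |Out S|` → `r ^ 2 ∣ |S|` -/
def OutSq (r : ℕ) (S : Type*) [Group S] : Prop := r ∣ Nat.card S → r ∣ Nat.card (Cfsg.Out S) → r ^ 2 ∣ Nat.card S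

theorem OutSq.congr {r : ℕ} {S T : Type*} [Group S] [Group T] (e : S ≃* T) (h : OutSq r T) : OutSq r S := by
  unfold OutSq at h ⊢
  rw [H55.OutGen.card_out_congr e, Nat.card_congr e.toEquiv]
  exact h

theorem of_le_two {r : ℕ} (hr : r.Prime) (hr2 : r ≠ 2) {S : Type*} [Group S] [Finite S]
    (h : Nat.card (Cfsg.Out S) ≤ 2) : OutSq r S := fun _ hd => by
  exfalso
  have h0 : 0 < Nat.card (Cfsg.Out S) := Nat.card_pos
  have h1 := Nat.le_of_dvd h0 hd
  have := hr.two_le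
  omega

/-- `r ∣ c f`, `r ∤ c` → `r ∣ f` -/
theorem dvd_right {r c f : ℕ} (hr : r.Prime) (hc : ¬ r ∣ c) (h : r ∣ c * f) : r ∣ f :=
  (hr.dvd_mul.1 h).resolve_left hc

variable {r : ℕ}

/-! ## classical groups -/

theorem out_psl (hr : r.Prime) (hr2 : r ≠ 2) {S : Type*} [Group S] [Finite S] [IsSimpleGroup S]
    (hna : ¬ IsMulCommutative S) (h : IsPSL S) : OutSq r S := by
  obtain ⟨F, _, _, n, hn, hn2, ⟨e⟩⟩ := h
  obtain ⟨p, f, hp, hf, hF, h2f, hq⟩ := exists_pf F
  have : Fact p.Prime := ⟨hp⟩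
  have hA := S0813.result p f hf hF n hn (fun h => hF ▸ hn2 h)
  rw [card_pgl F hn, ← mul_assoc] at hA
  have ho := card_out_of hna e hA
  have hN := S0243.result (F := F) rfl n hn
  rw [← Nat.card_congr e.toEquiv] at hN
  have hN' := psl_form hq (by omega) hN
  intro hrS hrO
  rw [ho] at hrO
  by_cases hd : r ∣ Nat.gcd n (Fintype.card F - 1)
  · refine psl_diag hr hr2 hq rfl hd ?_ hN'
    have h1 : r ∣ n := hd.trans (Nat.gcd_dvd_left _ _)
    have h2 := Nat.le_of_dvd (by omega) h1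
    have := hr.two_le
    omega
  · have h1 := (hr.dvd_mul.1 hrO).resolve_right hd
    have h2 := dvd_right hr (by split_ifs; exacts [hr.one_lt.ne' ∘ Nat.dvd_one.1, not_dvd_two hr hr2]) h1
    have hP : Pw r (Fintype.card F) := by rw [hF]; exact Pw.of_dvd hp h2
    refine Sq.of_mul hr hd ?_ hrS
    rw [hN']
    exact psl_sq hr hP

theorem out_psp (hr : r.Prime) (hr2 : r ≠ 2) {S : Type*} [Group S] [Finite S] [IsSimpleGroup S]
    (hna : ¬ IsMulCommutative S) (h : IsPSp S) : OutSq r S := by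
  obtain ⟨F, _, _, m, hm, hm2, ⟨e⟩⟩ := h
  obtain ⟨p, f, hp, hf, hF, h2f, hq⟩ := exists_pf F
  have : Fact p.Prime := ⟨hp⟩
  have hA := S0814.result p f hf hF m hm (fun h => hF ▸ hm2 h)
  have ho := card_out_of hna e hA
  have hN : Nat.gcd 2 (Fintype.card F - 1) * Nat.card (PSp m F) =
      (Fintype.card F) ^ (m ^ 2) * ∏ i ∈ Finset.range m, ((Fintype.card F) ^ (2 * (i + 1)) - 1) := by
    have h1 := S0245.result (F := F) rfl m
    have h2 := S0246.result (F := F) rfl m (by omega)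
    have h3 := Subgroup.card_eq_card_quotient_mul_card_subgroup
      (Subgroup.center (Matrix.symplecticGroup (Fin m) F))
    rw [h1, h2] at h3
    rw [h3, mul_comm]
  rw [← Nat.card_congr e.toEquiv] at hN
  intro hrS hrO
  rw [ho] at hrO
  have h1 := dvd_right hr (fun hc => by
    rcases hr.dvd_mul.1 hc with h | h
    · split_ifs at h
      · exact not_dvd_two hr hr2 h
      · exact hr.one_lt.ne' (Nat.dvd_one.1 h)
    · exact not_dvd_two hr hr2 (h.trans (Nat.gcd_dvd_left _ _))) hrO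
  have hP : Pw r (Fintype.card F) := by rw [hF]; exact Pw.of_dvd hp h1
  refine Sq.of_mul hr (fun h => not_dvd_two hr hr2 (h.trans (Nat.gcd_dvd_left 2 (Fintype.card F - 1)))) ?_ hrS
  rw [hN]
  exact (hP.pow hr _).mul hr (Sq.prod hr _ _ fun i _ => hP.sub hr _)

theorem out_psu (hr : r.Prime) (hr2 : r ≠ 2) {S : Type*} [Group S] [Finite S] [IsSimpleGroup S]
    (hna : ¬ IsMulCommutative S) (h : IsPSU S) : OutSq r S := by
  obtain ⟨F, _, _, n, q, hF, hn, hn2, ⟨e⟩⟩ := h
  obtain ⟨K, _, _, hK⟩ := S0280.exists_field hF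
  obtain ⟨p, f, hp, hf, hKpf, h2f, hq⟩ := exists_pf K
  rw [hK] at hKpf h2f hq
  have : Fact p.Prime := ⟨hp⟩
  have hA := S0815.result p f hf hKpf hF n hn hn2
  have ho := card_out_of hna e hA
  have hN := S0280.result hF n (by omega)
  rw [← Nat.card_congr e.toEquiv] at hN
  have hN' := psu_form (by omega) hN
  intro hrS hrO
  rw [ho] at hrO
  by_cases hd : r ∣ Nat.gcd n (q + 1)
  · exact psu_diag hr hr2 (by omega) rfl hd hn hN'
  · have h1 := dvd_right hr hd hrO
    have h2 := dvd_right hr (not_dvd_two hr hr2) h1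
    have hP : Pw r q := by rw [hKpf]; exact Pw.of_dvd hp h2
    refine Sq.of_mul hr hd ?_ hrS
    rw [hN']
    exact psu_sq hr hr2 hP

theorem out_omega_odd (hr : r.Prime) (hr2 : r ≠ 2) {S : Type*} [Group S] [Finite S] [IsSimpleGroup S]
    (hna : ¬ IsMulCommutative S) (h : IsPOmegaOdd S) : OutSq r S := by
  obtain ⟨F, _, _, m, hm, hodd, ⟨e⟩⟩ := h
  obtain ⟨p, f, hp, hf, hF, h2f, hq⟩ := exists_pf F
  have : Fact p.Prime := ⟨hp⟩
  have hpo : Odd p := by
    rcases hp.eq_two_or_odd' with h2 | h2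
    · exfalso
      rw [hF, h2, Nat.odd_pow_iff (by omega)] at hodd
      exact absurd hodd (by decide)
    · exact h2
  have hA := S0816.result p f hf hF hpo m hm
  have ho := card_out_of hna e hA
  have hN := S0292.result (F := F) rfl hodd m hm
  rw [← Nat.card_congr e.toEquiv] at hN
  intro hrS hrO
  rw [ho] at hrO
  have h1 := dvd_right hr (not_dvd_two hr hr2) hrO
  have hP : Pw r (Fintype.card F) := by rw [hF]; exact Pw.of_dvd hp h1
  refine Sq.of_mul hr (not_dvd_two hr hr2) ?_ hrS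
  rw [hN]
  exact (hP.pow hr _).mul hr (Sq.prod hr _ _ fun i _ => hP.sub hr _)

theorem out_omega_plus (hr : r.Prime) (hr2 : r ≠ 2) {S : Type*} [Group S] [Finite S] [IsSimpleGroup S]
    (hna : ¬ IsMulCommutative S) (h : IsPOmegaPlus S) : OutSq r S := by
  obtain ⟨F, _, _, m, hm, ⟨e⟩⟩ := h
  obtain ⟨p, f, hp, hf, hF, h2f, hq⟩ := exists_pf F
  have : Fact p.Prime := ⟨hp⟩
  have hA := S0817.result p f hf hF m hm
  have ho := card_out_of hna e hA
  have hN := S0293.result (F := F) rfl m hm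
  rw [← Nat.card_congr e.toEquiv] at hN
  have hd : ¬ r ∣ Nat.gcd 4 (Fintype.card F ^ m - 1) := fun h => not_dvd_four hr hr2 (h.trans (Nat.gcd_dvd_left _ _))
  intro hrS hrO
  rw [ho] at hrO
  by_cases h3 : r = 3
  · subst h3
    have h9 : 3 ^ 2 ∣ Nat.gcd 4 (Fintype.card F ^ m - 1) * Nat.card S := by
      rw [hN]
      refine nine_dvd (q := Fintype.card F) (k := 2) (by omega) ?_
      have h1 : (Fintype.card F) ^ 2 ∣ (Fintype.card F) ^ (m * (m - 1)) := by
        refine pow_dvd_pow _ ?_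
        have : 4 * 3 ≤ m * (m - 1) := Nat.mul_le_mul hm (by omega)
        omega
      have h2 : (Fintype.card F ^ 2 - 1) * (Fintype.card F ^ (2 * 2) - 1) ∣
          ∏ i ∈ Finset.range (m - 1), ((Fintype.card F) ^ (2 * (i + 1)) - 1) :=
        two_factors (fun i => (Fintype.card F) ^ (2 * (i + 1)) - 1) (i := 0) (j := 1) (by omega) (by omega)
          (by norm_num) (by simp) (by simp)
      rw [mul_assoc ((Fintype.card F) ^ 2)]
      exact mul_dvd_mul (h1.mul_right _) h2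
    exact Nat.Coprime.dvd_of_dvd_mul_left (Nat.Coprime.pow_left 2 ((Nat.Prime.coprime_iff_not_dvd hr).2 hd)) h9
  · have h1 := dvd_right hr (fun hc => by
      rcases hr.dvd_mul.1 hc with h | h
      · split_ifs at h
        · exact h3 (three_of_dvd hr h)
        · exact hr.one_lt.ne' (Nat.dvd_one.1 h)
      · split_ifs at h
        · exact not_dvd_two hr hr2 h
        · exact not_dvd_eight hr hr2 h
        · exact not_dvd_four hr hr2 h) hrO
    have hP : Pw r (Fintype.card F) := by rw [hF]; exact Pw.of_dvd hp h1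
    refine Sq.of_mul hr hd ?_ hrS
    rw [hN]
    exact ((hP.pow hr _).mul hr (hP.sub hr _)).mul hr (Sq.prod hr _ _ fun i _ => hP.sub hr _)

theorem out_omega_minus (hr : r.Prime) (hr2 : r ≠ 2) {S : Type*} [Group S] [Finite S] [IsSimpleGroup S]
    (hna : ¬ IsMulCommutative S) (h : IsPOmegaMinus S) : OutSq r S := by
  obtain ⟨F, _, _, m, a, b, hm, hab, ⟨e⟩⟩ := h
  obtain ⟨p, f, hp, hf, hF, h2f, hq⟩ := exists_pf F
  have : Fact p.Prime := ⟨hp⟩
  have hA := S0818.result p f hf hF m hm a b hab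
  have ho := card_out_of hna e hA
  have hN := S0294.result (F := F) rfl m hm a b hab
  rw [← Nat.card_congr e.toEquiv] at hN
  have hd : ¬ r ∣ Nat.gcd 4 (Fintype.card F ^ m + 1) := fun h => not_dvd_four hr hr2 (h.trans (Nat.gcd_dvd_left _ _))
  intro hrS hrO
  rw [ho] at hrO
  have h1 := dvd_right hr (fun h => by
    split_ifs at h
    · exact not_dvd_two hr hr2 h
    · exact not_dvd_four hr hr2 h
    · exact not_dvd_eight hr hr2 h) hrO
  have hP : Pw r (Fintype.card F) := by rw [hF]; exact Pw.of_dvd hp h1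
  refine Sq.of_mul hr hd ?_ hrS
  rw [hN]
  exact ((hP.pow hr _).mul hr (hP.add hr hr2 _)).mul hr (Sq.prod hr _ _ fun i _ => hP.sub hr _)

/-! ## exceptional groups -/

theorem out_g2 (hr : r.Prime) (hr2 : r ≠ 2) {S : Type*} [Group S] (h : IsoChevG2 S) : OutSq r S := by
  obtain ⟨F, _, _, h3, ⟨e⟩⟩ := h
  obtain ⟨p, f, hp, hf, hF, h2f, hq⟩ := exists_pf F
  have : Fact p.Prime := ⟨hp⟩
  have := charP_of hp hf hF
  refine OutSq.congr e ?_
  intro hrS hrO
  rw [S2121.result p f hF (hF ▸ h3)] at hrO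
  have h1 : r ∣ f := by
    split_ifs at hrO
    · exact dvd_right hr (not_dvd_two hr hr2) hrO
    · exact hrO
  have hP : Pw r (Fintype.card F) := by rw [hF]; exact Pw.of_dvd hp h1
  have hN := S1059.result (F := F) rfl
  revert hrS
  rw [hN]
  exact ((hP.pow hr _).mul hr (hP.sub hr _)).mul hr (hP.sub hr _)

theorem out_f4 (hr : r.Prime) (hr2 : r ≠ 2) {S : Type*} [Group S] (h : IsoF4 S) : OutSq r S := by
  obtain ⟨F, _, _, ⟨e⟩⟩ := h
  obtain ⟨p, f, hp, hf, hF, h2f, hq⟩ := exists_pf F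
  have : Fact p.Prime := ⟨hp⟩
  have := charP_of hp hf hF
  refine OutSq.congr e ?_
  intro hrS hrO
  rw [S2122.result p f hF] at hrO
  have h1 := dvd_right hr (fun h => not_dvd_two hr hr2 (h.trans (Nat.gcd_dvd_left _ _))) hrO
  have hP : Pw r (Fintype.card F) := by rw [hF]; exact Pw.of_dvd hp h1
  revert hrS
  rw [S1062.result (F := F) rfl]
  exact ((((hP.pow hr _).mul hr (hP.sub hr _)).mul hr (hP.sub hr _)).mul hr (hP.sub hr _)).mul hr (hP.sub hr _)

theorem out_e6 (hr : r.Prime) (hr2 : r ≠ 2) {S : Type*} [Group S] (h : IsoChevE6 S) : OutSq r S := by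
  obtain ⟨F, _, _, ⟨e⟩⟩ := h
  obtain ⟨p, f, hp, hf, hF, h2f, hq⟩ := exists_pf F
  have : Fact p.Prime := ⟨hp⟩
  have := charP_of hp hf hF
  refine OutSq.congr e ?_
  have hN := S1063.result (F := F) rfl
  intro hrS hrO
  rw [S2123.result p f hF, ← hF] at hrO
  by_cases hd : r ∣ Nat.gcd 3 (Fintype.card F - 1)
  · have hr3 := three_of_dvd hr (hd.trans (Nat.gcd_dvd_left _ _))
    subst hr3
    have h3q : 3 ∣ Fintype.card F - 1 := hd.trans (Nat.gcd_dvd_right _ _)
    have hk : ∀ k, 3 ∣ Fintype.card F ^ k - 1 := fun k => by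
      have := sub_dvd (Fintype.card F) 1 k (by omega) (one_dvd _)
      rw [pow_one] at this
      exact h3q.trans this
    have hd3 : Nat.gcd 3 (Fintype.card F - 1) ∣ 3 := Nat.gcd_dvd_left _ _
    have h27 : 3 * 3 ^ 2 ∣ Nat.gcd 3 (Fintype.card F - 1) * Nat.card (chevE6.group F) := by
      rw [hN]
      have h5 : 3 * 3 * 3 ∣ (Fintype.card F ^ 36 * (Fintype.card F ^ 2 - 1)) * (Fintype.card F ^ 5 - 1) *
          (Fintype.card F ^ 6 - 1) := mul_dvd_mul (mul_dvd_mul ((hk 2).mul_left _) (hk 5)) (hk 6)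
      have h6 : 3 * 3 ^ 2 ∣ 3 * 3 * 3 := by norm_num
      exact (((h6.trans h5).mul_right _).mul_right _).mul_right _
    have h4 : 3 * 3 ^ 2 ∣ 3 * Nat.card (chevE6.group F) := h27.trans (Nat.mul_dvd_mul_right hd3 _)
    exact Nat.dvd_of_mul_dvd_mul_left (by norm_num) h4
  · have h1 := dvd_right hr (fun h => by
      rcases hr.dvd_mul.1 h with h | h
      · exact not_dvd_two hr hr2 h
      · exact hd h) hrO
    have hP : Pw r (Fintype.card F) := by rw [hF]; exact Pw.of_dvd hp h1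
    refine Sq.of_mul hr hd ?_ hrS
    rw [hN]
    exact ((((((hP.pow hr _).mul hr (hP.sub hr _)).mul hr (hP.sub hr _)).mul hr (hP.sub hr _)).mul hr
      (hP.sub hr _)).mul hr (hP.sub hr _)).mul hr (hP.sub hr _)

theorem out_e7 (hr : r.Prime) (hr2 : r ≠ 2) {S : Type*} [Group S] (h : IsoE7 S) : OutSq r S := by
  obtain ⟨F, _, _, ⟨e⟩⟩ := h
  obtain ⟨p, f, hp, hf, hF, h2f, hq⟩ := exists_pf F
  have : Fact p.Prime := ⟨hp⟩
  have := charP_of hp hf hF
  refine OutSq.congr e ?_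
  have hN := S1064.result (F := F) rfl
  intro hrS hrO
  rw [S2124.result p f hF] at hrO
  have h1 := dvd_right hr (fun h => not_dvd_two hr hr2 (h.trans (Nat.gcd_dvd_left _ _))) hrO
  have hP : Pw r (Fintype.card F) := by rw [hF]; exact Pw.of_dvd hp h1
  refine Sq.of_mul hr (fun h => not_dvd_two hr hr2 (h.trans (Nat.gcd_dvd_left 2 (Fintype.card F - 1)))) ?_ hrS
  rw [hN]
  exact (((((((hP.pow hr _).mul hr (hP.sub hr _)).mul hr (hP.sub hr _)).mul hr (hP.sub hr _)).mul hr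
      (hP.sub hr _)).mul hr (hP.sub hr _)).mul hr (hP.sub hr _)).mul hr (hP.sub hr _)

theorem out_e8 (hr : r.Prime) {S : Type*} [Group S] (h : IsoE8 S) : OutSq r S := by
  obtain ⟨F, _, _, ⟨e⟩⟩ := h
  obtain ⟨p, f, hp, hf, hF, h2f, hq⟩ := exists_pf F
  have : Fact p.Prime := ⟨hp⟩
  have := charP_of hp hf hF
  refine OutSq.congr e ?_
  intro hrS hrO
  rw [S2125.result p f hF] at hrO
  have hP : Pw r (Fintype.card F) := by rw [hF]; exact Pw.of_dvd hp hrO
  revert hrS
  rw [S1065.result (F := F) rfl]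
  exact ((((((((hP.pow hr _).mul hr (hP.sub hr _)).mul hr (hP.sub hr _)).mul hr (hP.sub hr _)).mul hr
      (hP.sub hr _)).mul hr (hP.sub hr _)).mul hr (hP.sub hr _)).mul hr (hP.sub hr _)).mul hr (hP.sub hr _)

theorem out_2e6 (hr : r.Prime) (hr2 : r ≠ 2) {S : Type*} [Group S] (h : Iso2E6 S) : OutSq r S := by
  obtain ⟨K, _, _, q, hqp, hK, ⟨e⟩⟩ := h
  obtain ⟨p, f, hp, hc, hf, hqf, hKf, h2f, hq⟩ := exists_pf_of hqp hK (by norm_num)
  have : Fact p.Prime := ⟨hp⟩
  refine OutSq.congr e ?_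
  have hN := S1066.result hqp hK
  have ho := S2130.result p f hKf hf
  rw [← hqf] at ho
  intro hrS hrO
  rw [ho] at hrO
  by_cases hd : r ∣ Nat.gcd 3 (q + 1)
  · have hr3 := three_of_dvd hr (hd.trans (Nat.gcd_dvd_left _ _))
    subst hr3
    have h3q : 3 ∣ q + 1 := hd.trans (Nat.gcd_dvd_right _ _)
    have hk : ∀ k, Even k → 3 ∣ q ^ k - 1 := fun k hk => h3q.trans (add_dvd_sub q k (by omega) hk)
    have hk' : ∀ k, Odd k → 3 ∣ q ^ k + 1 := fun k hk => h3q.trans (add_dvd_add q k hk)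
    have hd3 : Nat.gcd 3 (q + 1) ∣ 3 := Nat.gcd_dvd_left _ _
    have h27 : 3 * 3 ^ 2 ∣ Nat.gcd 3 (q + 1) * Nat.card (twistedE6 K q) := by
      rw [hN]
      have h5 : 3 * 3 * 3 ∣ (q ^ 36 * (q ^ 2 - 1)) * (q ^ 5 + 1) * (q ^ 6 - 1) :=
        mul_dvd_mul (mul_dvd_mul ((hk 2 (by decide)).mul_left _) (hk' 5 (by decide))) (hk 6 (by decide))
      have h6 : 3 * 3 ^ 2 ∣ 3 * 3 * 3 := by norm_num
      exact (((h6.trans h5).mul_right _).mul_right _).mul_right _
    have h4 : 3 * 3 ^ 2 ∣ 3 * Nat.card (twistedE6 K q) := h27.trans (Nat.mul_dvd_mul_right hd3 _)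
    exact Nat.dvd_of_mul_dvd_mul_left (by norm_num) h4
  · have h1 := dvd_right hr (fun h => by
      rcases hr.dvd_mul.1 h with h | h
      · exact not_dvd_two hr hr2 h
      · exact hd h) hrO
    have hP : Pw r q := by rw [hqf]; exact Pw.of_dvd hp h1
    refine Sq.of_mul hr hd ?_ hrS
    rw [hN]
    exact ((((((hP.pow hr _).mul hr (hP.sub hr _)).mul hr (hP.add hr hr2 _)).mul hr (hP.sub hr _)).mul hr
      (hP.sub hr _)).mul hr (hP.add hr hr2 _)).mul hr (hP.sub hr _)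

theorem out_3d4 (hr : r.Prime) {S : Type*} [Group S] (h : Iso3D4 S) : OutSq r S := by
  obtain ⟨K, _, _, q, hqp, hK, ⟨e⟩⟩ := h
  obtain ⟨p, f, hp, hc, hf, hqf, hKf, h2f, hq⟩ := exists_pf_of hqp hK (by norm_num)
  have : Fact p.Prime := ⟨hp⟩
  refine OutSq.congr e ?_
  have hN := S1067.result hqp hK
  have ho := S2129.result p f hKf hf
  rw [← hqf] at ho
  intro hrS hrO
  rw [ho] at hrO
  by_cases h3 : r = 3
  · subst h3
    rw [hN]
    refine nine_dvd (q := q) (k := 3) (by omega) ?_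
    have h1 : q ^ 2 ∣ q ^ 12 := pow_dvd_pow _ (by norm_num)
    exact ((mul_dvd_mul (mul_dvd_mul h1 dvd_rfl) dvd_rfl)).mul_right _
  · have h1 := dvd_right hr (fun h => h3 (three_of_dvd hr h)) hrO
    have hP : Pw r q := by rw [hqf]; exact Pw.of_dvd hp h1
    revert hrS
    rw [hN]
    exact (((hP.pow hr _).mul hr (hP.sub hr _)).mul hr (hP.sub hr _)).mul hr (cub hr h3 hP (by omega))

theorem out_sz (hr : r.Prime) (hr2 : r ≠ 2) {S : Type*} [Group S] (h : IsoSuzuki S) : OutSq r S := by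
  obtain ⟨F, _, _, m, hm, hF, ⟨e⟩⟩ := h
  refine OutSq.congr e ?_
  intro hrS hrO
  rw [S2126.result hm hF] at hrO
  have hP : Pw r (2 ^ (2 * m + 1)) := Pw.of_dvd Nat.prime_two hrO
  revert hrS
  rw [(S1163.result hm hF).1]
  exact ((hP.pow hr _).mul hr (hP.sub_one hr)).mul hr (hP.add hr hr2 _)

theorem out_ree (hr : r.Prime) (hr2 : r ≠ 2) {S : Type*} [Group S] (h : IsoRee S) : OutSq r S := by
  obtain ⟨F, _, _, m, hm, hF, ⟨e⟩⟩ := h
  refine OutSq.congr e ?_
  intro hrS hrO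
  rw [S2127.result hm hF] at hrO
  have hP : Pw r (3 ^ (2 * m + 1)) := Pw.of_dvd Nat.prime_three hrO
  revert hrS
  rw [S1069.result hF]
  exact ((hP.pow hr _).mul hr (hP.sub_one hr)).mul hr (hP.add hr hr2 _)

theorem out_2f4 (hr : r.Prime) (hr2 : r ≠ 2) {S : Type*} [Group S] (h : Iso2F4 S) : OutSq r S := by
  obtain ⟨F, _, _, m, hm, hF, ⟨e⟩⟩ := h
  refine OutSq.congr e ?_
  intro hrS hrO
  rw [S2128.result hm hF] at hrO
  have hP : Pw r (2 ^ (2 * m + 1)) := Pw.of_dvd Nat.prime_two hrO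
  revert hrS
  rw [S1068.result hF]
  exact ((((hP.pow hr _).mul hr (hP.sub_one hr)).mul hr (hP.add hr hr2 _)).mul hr (hP.sub hr _)).mul hr
    (hP.add hr hr2 _)

/-! ## assembly -/

theorem outSq_known (hr : r.Prime) (hr2 : r ≠ 2) {S : Type*} [Group S] [Finite S] [IsSimpleGroup S]
    (hna : ¬ IsMulCommutative S) (h : IsKnownSimple' S) : OutSq r S := by
  rcases h with h | h | h | h | h | h | h | h | h | h
  · exfalso
    apply hna
    have h1 : Fact (Nat.card S).Prime := ⟨h⟩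
    have h2 : IsCyclic S := isCyclic_of_prime_card (p := Nat.card S) rfl
    exact IsCyclic.isMulCommutative
  · obtain ⟨n, hn, ⟨e⟩⟩ := h
    by_cases h6 : n = 6
    · subst h6
      exact out_psl hr hr2 hna (isPSL_alt_six e)
    · refine of_le_two hr hr2 ?_
      rw [H55.OutGen.card_out_congr e, card_out_alt hn h6]
  · exact out_psl hr hr2 hna h
  · exact out_psp hr hr2 hna h
  · exact out_psu hr hr2 hna h
  · exact out_omega_odd hr hr2 hna h
  · exact out_omega_plus hr hr2 hna h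
  · exact out_omega_minus hr hr2 hna h
  · rcases h with h | h | h | h | h | h | h | h | h | h | h
    · exact out_g2 hr hr2 h
    · exact out_f4 hr hr2 h
    · exact out_e6 hr hr2 h
    · exact out_e7 hr hr2 h
    · exact out_e8 hr h
    · exact out_2e6 hr hr2 h
    · exact out_3d4 hr h
    · exact out_sz hr hr2 h
    · exact out_ree hr hr2 h
    · exact out_2f4 hr hr2 h
    · exact of_le_two hr hr2 (card_out_tits h)
  · exact of_le_two hr hr2 (card_out_sporadic h)

/-- **`FactOut`** from the classification. -/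
theorem factOut_of {p : ℕ} [hp : Fact p.Prime] (hp2 : p ≠ 2)
    (hS : ∀ (S : Type u) [Group S] [Finite S] [IsSimpleGroup S], IsKnownSimple' S) :
    H696.PSq.FactOut.{u} p := by
  intro S _ _ _ hna h1 h2 h3
  exact h2 (outSq_known hp.out hp2 hna (hS S) h1 h3)

end Cfsg.Agent.H267.PSq.Out
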