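import Cfsg.Agent.H267.PSq.Out
import Cfsg.Agent.S0000

/-!
# S4844, `FactOut` (helper267)
-/

set_option autoImplicit false

namespace Cfsg.Agent.H267.PSq.Out

open Cfsg

universe u

/-- **`FactOut`** : `p` odd, `|S|_p = p` → `p ∤ |Out S|`. -/
theorem factOut {p : ℕ} [Fact p.Prime] (hp2 : p ≠ 2) : H696.PSq.FactOut.{u} p :=
  factOut_of hp2 fun S _ _ _ => S0000.result (G := S)

end Cfsg.Agent.H267.PSq.Out
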